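import Mathlib
import Cfsg.Agent.UGT.Res.Gen
import Cfsg.Agent.StandardComponent.AltAut
import Cfsg.Agent.S0204
import Cfsg.Agent.FastGrp
import Cfsg.Agent.Prune
set_option linter.all false
prune_inst 0x7f00000000000000000000000000000000000000000000000000000000000000000000000000000000000000000000000000000000000000000000000000000000000000000000000000000000000000003fffffffffffffffffffffffffffbeffbdffffffff
open scoped Cfsg.Agent.FastGrp

/-!
# Involutory automorphisms of `PSL(2,q)`, `A₇` whose fixed points have cyclic Sylow 2-subgroups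

* `eq_of_cyclic` : in a group with cyclic Sylow 2-subgroups commuting involutions are equal
* `syl_cyclic_of_inner` : for an involution `s` of `L` such that the Sylow 2-subgroups of `C_L(s)` are
  cyclic, the Sylow 2-subgroups of `L` are cyclic
* `o1_eq` : `L ≅ PSL(2,q)`: such an automorphism is of PGL type
* `alt_seven` : there is none for `A₇`
-/

set_option autoImplicit false

namespace Cfsg.Agent.H21.CycFix

open Subgroup
open Cfsg.Agent.GH.L2Aut Cfsg.Agent.GH.L2Aut.Rep

/-- in a cyclic group, elements of the same order two are equal -/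
theorem eq_of_isCyclic {P : Type*} [Group P] [Finite P] (hP : IsCyclic P) {x y : P}
    (hx : x * x = 1) (hy : y * y = 1) (hx1 : x ≠ 1) (hy1 : y ≠ 1) : x = y := by
  classical
  have : Fintype P := Fintype.ofFinite P
  have h1 := IsCyclic.card_pow_eq_one_le (α := P) (n := 2) (by norm_num)
  by_contra hxy
  have h2 : ({1, x, y} : Finset P) ⊆ Finset.univ.filter (fun a : P => a ^ 2 = 1) := by
    intro a ha
    simp only [Finset.mem_insert, Finset.mem_singleton] at ha
    simp only [Finset.mem_filter, Finset.mem_univ, true_and, pow_two]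
    rcases ha with rfl | rfl | rfl
    · simp
    · exact hx
    · exact hy
  have h3 := Finset.card_le_card h2
  rw [Finset.card_insert_of_notMem, Finset.card_insert_of_notMem, Finset.card_singleton] at h3
  · omega
  · simpa using hxy
  · simp only [Finset.mem_insert, Finset.mem_singleton, not_or]
    exact ⟨Ne.symm hx1, Ne.symm hy1⟩

/-- two commuting involutions generate a 2-group -/
theorem isPGroup_pair {H : Type*} [Group H] {x y : H} (hx : x * x = 1) (hy : y * y = 1)
    (hc : x * y = y * x) : IsPGroup 2 (Subgroup.closure ({x, y} : Set H)) := by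
  have hcomm : ∀ a ∈ ({x, y} : Set H), ∀ b ∈ ({x, y} : Set H), a * b = b * a := by
    rintro a (rfl | rfl) b (rfl | rfl)
    · rfl
    · exact hc
    · exact hc.symm
    · rfl
  have hcm := Subgroup.isMulCommutative_closure hcomm
  rintro ⟨g, hg⟩
  refine ⟨1, ?_⟩
  rw [pow_one]
  apply Subtype.ext
  rw [Subgroup.coe_pow, Subgroup.coe_one]
  induction hg using Subgroup.closure_induction with
  | mem a ha =>
    rcases ha with rfl | rfl
    · rw [pow_two]; exact hx
    · rw [pow_two]; exact hy
  | one => simp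
  | mul a b ha hb h1 h2 =>
    have h3 : a * b = b * a :=
      congrArg Subtype.val (hcm.is_comm.comm (⟨a, ha⟩ : Subgroup.closure ({x, y} : Set H)) ⟨b, hb⟩)
    rw [Commute.mul_pow h3, h1, h2, one_mul]
  | inv a ha h1 => rw [inv_pow, h1, inv_one]

/-- in a group with cyclic Sylow 2-subgroups commuting involutions are equal -/
theorem eq_of_cyclic {H : Type*} [Group H] [Finite H] (hH : ∀ P : Sylow 2 H, IsCyclic P) {x y : H}
    (hx : x * x = 1) (hy : y * y = 1) (hx1 : x ≠ 1) (hy1 : y ≠ 1) (hc : x * y = y * x) : x = y := by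
  obtain ⟨P, hP⟩ := (isPGroup_pair hx hy hc).exists_le_sylow
  have hxP : x ∈ P := hP (Subgroup.subset_closure (by simp))
  have hyP : y ∈ P := hP (Subgroup.subset_closure (by simp))
  have h1 : (⟨x, hxP⟩ : P) = ⟨y, hyP⟩ := eq_of_isCyclic (hH P) (Subtype.ext hx) (Subtype.ext hy)
    (fun h => hx1 (congrArg Subtype.val h)) (fun h => hy1 (congrArg Subtype.val h))
  exact congrArg Subtype.val h1

/-- all Sylow 2-subgroups are cyclic if one is -/
theorem cyclic_all {H : Type*} [Group H] [Finite H] (P : Sylow 2 H) (hP : IsCyclic P) :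
    ∀ Q : Sylow 2 H, IsCyclic Q := by
  intro Q
  have e := P.equiv Q
  exact isCyclic_of_surjective e.toMonoidHom e.surjective

/-- cyclic Sylow 2-subgroups are inherited by groups which embed -/
theorem cyclic_of_inj {A B : Type*} [Group A] [Group B] [Finite A] [Finite B] (f : A →* B)
    (hf : Function.Injective f) (hB : ∀ R : Sylow 2 B, IsCyclic R) (S : Sylow 2 A) : IsCyclic S := by
  obtain ⟨R, hR⟩ := (S.isPGroup'.map f).exists_le_sylow
  have := hB R
  have h1 : IsCyclic ((S : Subgroup A).map f) :=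
    isCyclic_of_injective (Subgroup.inclusion hR) (Subgroup.inclusion_injective hR)
  exact isCyclic_of_surjective ((S : Subgroup A).equivMapOfInjective f hf).symm.toMonoidHom
    ((S : Subgroup A).equivMapOfInjective f hf).symm.surjective

/-- if `s` is an involution and `C(s)` has cyclic Sylow 2-subgroups then so does the group -/
theorem syl_cyclic_of_inner {L : Type*} [Group L] [Finite L] {s : L} (hs : s * s = 1) (hs1 : s ≠ 1)
    (C : Subgroup L) (hC : ∀ x, x * s = s * x → x ∈ C) (hsy : ∀ R : Sylow 2 C, IsCyclic R) :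
    ∀ P : Sylow 2 L, IsCyclic P := by
  have hp : IsPGroup 2 (zpowers s) := by
    rintro ⟨t, k, rfl⟩
    refine ⟨1, ?_⟩
    ext
    simp only [pow_one, Subgroup.coe_pow, Subgroup.coe_one]
    rw [← zpow_natCast, ← zpow_mul, mul_comm, zpow_mul, zpow_natCast, pow_two, hs, one_zpow]
  obtain ⟨P, hP⟩ := hp.exists_le_sylow
  have hsP : s ∈ P := hP (mem_zpowers s)
  refine cyclic_all P ?_
  have hnt : Nontrivial (P : Subgroup L) :=
    ⟨⟨⟨s, hsP⟩, 1, fun h => hs1 (congrArg Subtype.val h)⟩⟩
  have : Fact (Nat.Prime 2) := ⟨Nat.prime_two⟩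
  have hcn : Nontrivial (Subgroup.center (P : Subgroup L)) := P.isPGroup'.center_nontrivial
  have h2 : 2 ∣ Nat.card (Subgroup.center (P : Subgroup L)) := by
    have h3 : IsPGroup 2 (Subgroup.center (P : Subgroup L)) := P.isPGroup'.to_subgroup _
    obtain ⟨n, hn⟩ := (IsPGroup.iff_card).mp h3
    rw [hn]
    rcases Nat.eq_zero_or_pos n with h0 | h0
    · exfalso
      rw [h0, pow_zero] at hn
      have := Finite.one_lt_card (α := Subgroup.center (P : Subgroup L))
      omega
    · exact dvd_pow_self 2 (by omega)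
  obtain ⟨⟨z, hz⟩, hz2⟩ := exists_prime_orderOf_dvd_card' 2 h2
  rw [Subgroup.orderOf_mk] at hz2
  have hzz : z * z = 1 := by
    have h9 := pow_orderOf_eq_one z
    rwa [hz2, pow_two] at h9
  have hz1 : z ≠ 1 := by
    intro h; rw [h, orderOf_one] at hz2; omega
  have hzc : ∀ x : P, x * z = z * x := fun x => Subgroup.mem_center_iff.mp hz x
  have hzG : (z : L) * z = 1 := congrArg Subtype.val hzz
  have hzG1 : (z : L) ≠ 1 := fun h => hz1 (Subtype.ext h)
  have hzs : (z : L) * s = s * z := (congrArg Subtype.val (hzc ⟨s, hsP⟩)).symm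
  have heq : (⟨z, hC z hzs⟩ : C) = ⟨s, hC s rfl⟩ :=
    eq_of_cyclic hsy (Subtype.ext hzG) (Subtype.ext hs) (fun h => hzG1 (congrArg Subtype.val h))
      (fun h => hs1 (congrArg Subtype.val h)) (Subtype.ext hzs)
  have hzs' : (z : L) = s := congrArg Subtype.val heq
  have hPC : (P : Subgroup L) ≤ C := by
    intro x hx
    apply hC
    rw [← hzs']
    exact congrArg Subtype.val (hzc ⟨x, hx⟩)
  have hp2 : IsPGroup 2 ((P : Subgroup L).subgroupOf C) :=
    P.isPGroup'.of_equiv (Subgroup.subgroupOfEquivOfLe hPC).symm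
  obtain ⟨R, hR⟩ := hp2.exists_le_sylow
  have := hsy R
  have h5 : IsCyclic ((P : Subgroup L).subgroupOf C) :=
    isCyclic_of_injective (Subgroup.inclusion hR) (Subgroup.inclusion_injective hR)
  exact isCyclic_of_surjective (Subgroup.subgroupOfEquivOfLe hPC).toMonoidHom
    (Subgroup.subgroupOfEquivOfLe hPC).surjective

/-- a non-abelian simple group has no cyclic Sylow 2-subgroup -/
theorem not_cyclic {L : Type*} [Group L] [Finite L] [IsSimpleGroup L] (hL : ¬ IsCyclic L) :
    ¬ ∀ P : Sylow 2 L, IsCyclic P := by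
  intro h
  obtain ⟨E, hE⟩ := Cfsg.Agent.S0204.result (G := L) hL
  have hcard : Nat.card E = 4 := hE.card_four
  have hexp : Monoid.exponent E = 2 := hE.exponent_two
  have hnt : Nontrivial E := by
    have := Finite.one_lt_card_iff_nontrivial (α := E)
    rw [← this]; omega
  have hsq : ∀ x : E, x * x = 1 := by
    intro x
    rw [← pow_two, ← hexp]
    exact Monoid.pow_exponent_eq_one x
  obtain ⟨x, hx⟩ := exists_ne (1 : E)
  obtain ⟨y, hy⟩ : ∃ y : E, y ≠ 1 ∧ y ≠ x := by
    by_contra hcon
    push Not at hcon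
    classical
    have : Fintype E := Fintype.ofFinite E
    have h1 : (Finset.univ : Finset E) ⊆ {1, x} := by
      intro a _
      simp only [Finset.mem_insert, Finset.mem_singleton]
      by_cases ha : a = 1
      · exact Or.inl ha
      · exact Or.inr (hcon a ha)
    have h2 := Finset.card_le_card h1
    rw [Finset.card_univ, ← Nat.card_eq_fintype_card, hcard] at h2
    have h3 := Finset.card_le_two (a := (1 : E)) (b := x)
    omega
  have hcomm : (x : L) * y = y * x := by
    have h1 := hsq (x * y)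
    have hxi : x⁻¹ = x := inv_eq_of_mul_eq_one_left (hsq x)
    have hyi : y⁻¹ = y := inv_eq_of_mul_eq_one_left (hsq y)
    have h2 : x * y = y * x := by
      calc x * y = (x * y)⁻¹ := (inv_eq_of_mul_eq_one_left h1).symm
        _ = y⁻¹ * x⁻¹ := by group
        _ = y * x := by rw [hxi, hyi]
    exact congrArg Subtype.val h2
  have h3 := eq_of_cyclic h (x := (y : L)) (y := (x : L)) (congrArg Subtype.val (hsq y))
    (congrArg Subtype.val (hsq x)) (fun h4 => hy.1 (Subtype.ext h4)) (fun h4 => hx (Subtype.ext h4))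
    hcomm.symm
  exact hy.2 (Subtype.ext h3)

section psl

variable {F : Type*} [Field F] [Finite F] {L : Type*} [Group L] [Finite L] [IsSimpleGroup L]
variable (R : Cfsg.Agent.GH.L2Aut.Rep F L)

/-- an automorphism `α`, `α² = 1`, whose fixed points have cyclic Sylow 2-subgroups is of PGL type -/
theorem o1_eq (hL : ¬ IsCyclic L) {α : MulAut L} (h : α * α = 1)
    (hcyc : ∀ S : Sylow 2 (fixSub α), IsCyclic S) : R.o1 α = -1 := by
  by_contra ho
  have ho1 : R.o1 α = 1 := (Int.units_eq_one_or _).resolve_right ho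
  by_cases hf : R.fld α = 1
  · obtain ⟨s, hs⟩ := (R.mem_inn_iff).mpr ⟨hf, ho1⟩
    have hss : s * s = 1 := by
      have h1 : MulAut.conj (s * s) = 1 := by rw [map_mul, hs, h]
      have h2 : MulAut.conj (s * s) = MulAut.conj (1 : L) := by rw [h1, map_one]
      exact R.conj_injective h2
    by_cases hs1 : s = 1
    · -- everything is fixed
      apply not_cyclic hL
      have hα : ∀ x, α x = x := by
        intro x
        rw [← hs, hs1, map_one]; rfl
      obtain ⟨P⟩ : Nonempty (Sylow 2 L) := inferInstance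
      refine cyclic_all P ?_
      have hle : (P : Subgroup L) ≤ fixSub α := fun x _ => hα x
      have hp2 : IsPGroup 2 ((P : Subgroup L).subgroupOf (fixSub α)) :=
        P.isPGroup'.of_equiv (Subgroup.subgroupOfEquivOfLe hle).symm
      obtain ⟨S, hS⟩ := hp2.exists_le_sylow
      have := hcyc S
      have h5 : IsCyclic ((P : Subgroup L).subgroupOf (fixSub α)) :=
        isCyclic_of_injective (Subgroup.inclusion hS) (Subgroup.inclusion_injective hS)
      exact isCyclic_of_surjective (Subgroup.subgroupOfEquivOfLe hle).toMonoidHom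
        (Subgroup.subgroupOfEquivOfLe hle).surjective
    · apply not_cyclic hL
      refine syl_cyclic_of_inner hss hs1 (fixSub α) ?_ hcyc
      intro x hx
      show α x = x
      rw [← hs, MulAut.conj_apply, ← hx]; group
  · obtain ⟨a, b, y, hF, ha, hb, -⟩ := R.field_four (φ := α) (fun hP => hf (R.mem_PGL_iff_fld.mp hP)) h
    have h1 : (⟨a, ha⟩ : fixSub α) = ⟨b, hb⟩ :=
      eq_of_cyclic hcyc (Subtype.ext hF.aa) (Subtype.ext hF.bb)
        (fun h => hF.a1 (congrArg Subtype.val h)) (fun h => hF.b1 (congrArg Subtype.val h))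
        (Subtype.ext hF.comm)
    exact hF.ne (congrArg Subtype.val h1)

include R in
/-- the product of two such commuting automorphisms is trivial if their fixed points lie in a proper
subgroup -/
theorem mul_eq_one (hL : ¬ IsCyclic L) (h5 : 4 < Nat.card F) {α β : MulAut L} (hα : α * α = 1)
    (hβ : β * β = 1) (hαβ : α * β = β * α)
    (hcα : ∀ S : Sylow 2 (fixSub α), IsCyclic S) (hcβ : ∀ S : Sylow 2 (fixSub β), IsCyclic S)
    (K : Subgroup L) (hK : K ≠ ⊤) (hKα : fixSub α ≤ K) (hKβ : fixSub β ≤ K) : α * β = 1 := by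
  have h1 := o1_eq R hL hα hcα
  have h2 := o1_eq R hL hβ hcβ
  have f1 : R.fld α = 1 := R.mem_PGL_iff_fld.mp (Cfsg.Agent.OddHalf.D6.PglType.pgl_of R hα h1).1
  have f2 : R.fld β = 1 := R.mem_PGL_iff_fld.mp (Cfsg.Agent.OddHalf.D6.PglType.pgl_of R hβ h2).1
  obtain ⟨s, hs⟩ := (R.mem_inn_iff (α := α * β)).mpr ⟨by rw [map_mul, f1, f2, one_mul],
    by rw [map_mul, h1, h2]; rfl⟩
  have hsq : (α * β) * (α * β) = 1 := by
    calc (α * β) * (α * β) = α * (β * α) * β := by group
      _ = (α * α) * (β * β) := by rw [← hαβ]; group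
      _ = 1 := by rw [hα, hβ, one_mul]
  have hss : s * s = 1 := by
    have h3 : MulAut.conj (s * s) = 1 := by rw [map_mul, hs, hsq]
    have h4 : MulAut.conj (s * s) = MulAut.conj (1 : L) := by rw [h3, map_one]
    exact R.conj_injective h4
  have hsα : α s = s := by
    apply R.conj_injective
    have h3 : MulAut.conj (α s) = α * MulAut.conj s * α⁻¹ := by
      ext x
      simp only [MulAut.conj_apply, MulAut.mul_apply, map_mul, map_inv, MulAut.apply_inv_self]
    rw [h3, hs]
    calc α * (α * β) * α⁻¹ = α * (β * α) * α⁻¹ := by rw [hαβ]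
      _ = α * β := by group
  have hsi : s⁻¹ = s := inv_eq_of_mul_eq_one_left hss
  by_cases hs1 : s = 1
  · rw [← hs, hs1, map_one]
  · exfalso
    apply hK
    refine Cfsg.Agent.UGT.Res.Gen.gen R h5 hα h1 hsα hss hs1 K ?_ ?_
    · intro t ht _
      exact hKα ht
    · intro t ht _
      apply hKβ
      show β t = t
      have hβ' : β = α * MulAut.conj s := by
        rw [hs, ← mul_assoc, hα, one_mul]
      rw [hβ', MulAut.mul_apply, MulAut.conj_apply, map_mul, map_mul, map_inv, hsα, ht]
      group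

end psl

/-! ### The alternating group of degree seven -/

section alt

open Equiv

/-- a permutation of order at most two of seven points is centralised by a four-group -/
theorem perm_seven (σ : Perm (Fin 7)) (hσ : σ * σ = 1) :
    ∃ x y : Perm (Fin 7), x ∈ alternatingGroup (Fin 7) ∧ y ∈ alternatingGroup (Fin 7) ∧
      x * x = 1 ∧ y * y = 1 ∧ x ≠ 1 ∧ y ≠ 1 ∧ x ≠ y ∧ x * y = y * x ∧ σ * x = x * σ ∧
      σ * y = y * σ := by
  -- representatives
  have key : ∀ τ : Perm (Fin 7), IsConj τ σ → (∃ x y : Perm (Fin 7), x ∈ alternatingGroup (Fin 7) ∧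
      y ∈ alternatingGroup (Fin 7) ∧
      x * x = 1 ∧ y * y = 1 ∧ x ≠ 1 ∧ y ≠ 1 ∧ x ≠ y ∧ x * y = y * x ∧ τ * x = x * τ ∧
      τ * y = y * τ) → ∃ x y : Perm (Fin 7), x ∈ alternatingGroup (Fin 7) ∧
      y ∈ alternatingGroup (Fin 7) ∧
      x * x = 1 ∧ y * y = 1 ∧ x ≠ 1 ∧ y ≠ 1 ∧ x ≠ y ∧ x * y = y * x ∧ σ * x = x * σ ∧
      σ * y = y * σ := by
    rintro τ hτ ⟨x, y, hx, hy, hxx, hyy, hx1, hy1, hxy, hc, h1, h2⟩
    obtain ⟨g, rfl⟩ := isConj_iff.mp hτ
    have hn : (alternatingGroup (Fin 7)).Normal := inferInstance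
    have hmul : ∀ a b : Perm (Fin 7), (g * a * g⁻¹) * (g * b * g⁻¹) = g * (a * b) * g⁻¹ := by
      intro a b; group
    have hne : ∀ a : Perm (Fin 7), a ≠ 1 → g * a * g⁻¹ ≠ 1 := by
      intro a ha h
      apply ha
      have : a = g⁻¹ * (g * a * g⁻¹) * g := by group
      rw [this, h]; group
    refine ⟨g * x * g⁻¹, g * y * g⁻¹, hn.conj_mem x hx g, hn.conj_mem y hy g, ?_, ?_, hne x hx1,
      hne y hy1, ?_, ?_, ?_, ?_⟩
    · rw [hmul, hxx]; group
    · rw [hmul, hyy]; group
    · intro h
      apply hxy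
      have : x = g⁻¹ * (g * x * g⁻¹) * g := by group
      rw [this, h]; group
    · rw [hmul, hmul, hc]
    · rw [hmul, hmul, h1]
    · rw [hmul, hmul, h2]
  have hσ2 : σ ^ 2 = 1 := by rw [pow_two]; exact hσ
  have hct : ∃ k ≤ 3, σ.cycleType = Multiset.replicate k 2 := by
    have h1 : ∀ n ∈ σ.cycleType, n = 2 := by
      intro n hn
      have h2 : n ∣ 2 := (Equiv.Perm.dvd_of_mem_cycleType hn).trans (orderOf_dvd_of_pow_eq_one hσ2)
      have h3 := Equiv.Perm.two_le_of_mem_cycleType hn
      have := Nat.le_of_dvd (by norm_num) h2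
      omega
    refine ⟨Multiset.card σ.cycleType, ?_, Multiset.eq_replicate_card.mpr h1⟩
    have h4 := Equiv.Perm.sum_cycleType_le (σ := σ)
    rw [Multiset.eq_replicate_card.mpr h1, Multiset.sum_replicate] at h4
    simp only [smul_eq_mul, Fintype.card_fin] at h4
    omega
  obtain ⟨k, hk, hct⟩ := hct
  interval_cases k
  · refine key 1 ?_ ⟨swap (0 : Fin 7) 1 * swap (2 : Fin 7) 3, swap (0 : Fin 7) 2 * swap (1 : Fin 7) 3, Equiv.Perm.mem_alternatingGroup.mpr (by decide), Equiv.Perm.mem_alternatingGroup.mpr (by decide), by decide,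
      by decide, by decide, by decide, by decide, by decide, by decide, by decide⟩
    rw [Equiv.Perm.isConj_iff_cycleType_eq, hct]
    simp
  · refine key (swap (0 : Fin 7) 1) ?_ ⟨swap (0 : Fin 7) 1 * swap (2 : Fin 7) 3, swap (0 : Fin 7) 1 * swap (4 : Fin 7) 5, Equiv.Perm.mem_alternatingGroup.mpr (by decide), Equiv.Perm.mem_alternatingGroup.mpr (by decide),
      by decide, by decide, by decide, by decide, by decide, by decide, by decide, by decide⟩
    rw [Equiv.Perm.isConj_iff_cycleType_eq, hct]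
    decide
  · refine key (swap (0 : Fin 7) 1 * swap (2 : Fin 7) 3) ?_ ⟨swap (0 : Fin 7) 1 * swap (2 : Fin 7) 3, swap (0 : Fin 7) 2 * swap (1 : Fin 7) 3, Equiv.Perm.mem_alternatingGroup.mpr (by decide),
      Equiv.Perm.mem_alternatingGroup.mpr (by decide), by decide, by decide, by decide, by decide, by decide, by decide, by decide,
      by decide⟩
    rw [Equiv.Perm.isConj_iff_cycleType_eq, hct]
    decide
  · refine key (swap (0 : Fin 7) 1 * swap (2 : Fin 7) 3 * swap (4 : Fin 7) 5) ?_ ⟨swap (0 : Fin 7) 1 * swap (2 : Fin 7) 3, swap (0 : Fin 7) 1 * swap (4 : Fin 7) 5,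
      Equiv.Perm.mem_alternatingGroup.mpr (by decide), Equiv.Perm.mem_alternatingGroup.mpr (by decide), by decide, by decide, by decide, by decide, by decide, by decide,
      by decide, by decide⟩
    rw [Equiv.Perm.isConj_iff_cycleType_eq, hct]
    decide

/-- no automorphism of order at most two of `A₇` has fixed points with cyclic Sylow 2-subgroups -/
theorem alt_seven {L : Type*} [Group L] [Finite L] (e : L ≃* alternatingGroup (Fin 7)) {α : MulAut L}
    (h : α * α = 1) (hcyc : ∀ S : Sylow 2 (fixSub α), IsCyclic S) : False := by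
  obtain ⟨ψ, hψ⟩ := Cfsg.Agent.StandardComponent.AltAut.exists_autHom 7 le_rfl
  set α' : MulAut (alternatingGroup (Fin 7)) := MulAut.congr e α with hα'
  have hαα : α' * α' = 1 := by rw [hα', ← map_mul, h, map_one]
  have hσ : ψ α' * ψ α' = 1 := by rw [← map_mul, hαα, map_one]
  obtain ⟨x, y, hx, hy, hxx, hyy, hx1, hy1, hxy, hc, h1, h2⟩ := perm_seven (ψ α') hσ
  have hfix : ∀ (x : Perm (Fin 7)) (hx : x ∈ alternatingGroup (Fin 7)), ψ α' * x = x * ψ α' →
      α (e.symm ⟨x, hx⟩) = e.symm ⟨x, hx⟩ := by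
    intro x hx h1
    have h3 : α' ⟨x, hx⟩ = ⟨x, hx⟩ := by
      apply Subtype.ext
      rw [hψ]
      show ψ α' * x * (ψ α')⁻¹ = x
      rw [h1]; group
    have h4 : α' ⟨x, hx⟩ = e (α (e.symm ⟨x, hx⟩)) := rfl
    rw [h4] at h3
    apply e.injective
    rw [h3, MulEquiv.apply_symm_apply]
  have h3 : (⟨e.symm ⟨x, hx⟩, hfix x hx h1⟩ : fixSub α) = ⟨e.symm ⟨y, hy⟩, hfix y hy h2⟩ := by
    refine eq_of_cyclic hcyc ?_ ?_ ?_ ?_ ?_
    · apply Subtype.ext
      show e.symm ⟨x, hx⟩ * e.symm ⟨x, hx⟩ = 1
      rw [← map_mul, ← map_one e.symm]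
      congr 1
      exact Subtype.ext hxx
    · apply Subtype.ext
      show e.symm ⟨y, hy⟩ * e.symm ⟨y, hy⟩ = 1
      rw [← map_mul, ← map_one e.symm]
      congr 1
      exact Subtype.ext hyy
    · intro h4
      have h5 : e.symm ⟨x, hx⟩ = 1 := congrArg Subtype.val h4
      rw [← map_one e.symm] at h5
      exact hx1 (congrArg Subtype.val (e.symm.injective h5))
    · intro h4
      have h5 : e.symm ⟨y, hy⟩ = 1 := congrArg Subtype.val h4
      rw [← map_one e.symm] at h5
      exact hy1 (congrArg Subtype.val (e.symm.injective h5))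
    · apply Subtype.ext
      show e.symm ⟨x, hx⟩ * e.symm ⟨y, hy⟩ = e.symm ⟨y, hy⟩ * e.symm ⟨x, hx⟩
      rw [← map_mul, ← map_mul]
      congr 1
      exact Subtype.ext hc
  have h4 : e.symm ⟨x, hx⟩ = e.symm ⟨y, hy⟩ := congrArg Subtype.val h3
  exact hxy (congrArg Subtype.val (e.symm.injective h4))

end alt

end Cfsg.Agent.H21.CycFix
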