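import Cfsg.Agent.PLocal.QuadSection
import Cfsg.Agent.PLocal.SL2Perfect
import Cfsg.Agent.PLocal.SLTwoSylow
import Cfsg.Agent.H879.QuadPair
import Cfsg.Agent.S0199
import Cfsg.Agent.H95.LSx.Sub
import Cfsg.Agent.H254.CopCard_m3
import Cfsg.Agent.H686.CgPsp
import Cfsg.Agent.S0813
import Cfsg.Agent.S0814
import Cfsg.Agent.S0815
import Cfsg.Agent.S0817
import Cfsg.Agent.S2121
import Cfsg.Agent.S2122
import Cfsg.Agent.S2130
import Cfsg.Agent.H331.SCExc
import Cfsg.Agent.H996.AllSplit_m3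
import Cfsg.Agent.H25.UFDef
import Cfsg.Agent.H400.LieLocal
import Cfsg.Agent.H451.PowellE
import Cfsg.Agent.S1157
import Cfsg.Agent.S2111
import Cfsg.Agent.S2112
import Cfsg.Agent.S2113
import Cfsg.Agent.FastGrp
import Cfsg.Agent.Prune
set_option linter.all false
prune_inst 0x7f00000000000000000000000000000000000000000000000000000000000000000000000000000000000000000000000000000000000000000000000000000000000000000000000000000000000000001fffffffffffffffffffffffffffbeffbdffffffff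
open scoped Cfsg.Agent.FastGrp

-- part: H25/S30Quad
section
/-!
# Quadratic elements of linear groups over `ZMod p`, `p > 3`, and of their central quotients

* `comm_of_coprime` : a quadratic element centralises every `p'`-subgroup it normalises;
* `QD ρ π l` : `l` is a quadratic element of the perfect group `L ≤ GL(V)`, `π : L → K` has a central kernel of order
  prime to `p`;
* `QD.comm`, `QD.exists_involution`, `QD.three_dvd`, `QD.sylow_two`.
-/

set_option autoImplicit false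

namespace Cfsg.Agent.H25.S30

open Subgroup Matrix

universe u v w

section Linear

variable {p : ℕ} [hp : Fact p.Prime] {E : Type*} [Group E] [Finite E] {V : Type*} [AddCommGroup V]
  [Module (ZMod p) V] [Finite V]

theorem quad_apply {ρ : E →* Module.End (ZMod p) V} {t : E} (ht : (ρ t - 1) ^ 2 = 0) (w : V) :
    ρ t (ρ t w - w) = ρ t w - w := by
  have h2 := congrArg (fun T : Module.End (ZMod p) V => T w) ht
  simp only [pow_two, Module.End.mul_apply, LinearMap.sub_apply, Module.End.one_apply,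
    LinearMap.zero_apply] at h2
  exact sub_eq_zero.mp h2

theorem charP_end [Nontrivial V] : CharP (Module.End (ZMod p) V) p :=
  charP_of_injective_algebraMap (FaithfulSMul.algebraMap_injective (ZMod p) (Module.End (ZMod p) V)) p

theorem pow_eq_one {ρ : E →* Module.End (ZMod p) V} (hρ : Function.Injective ρ) {t : E} (ht : (ρ t - 1) ^ 2 = 0) :
    t ^ p = 1 := by
  apply hρ
  rw [map_pow, map_one]
  rcases subsingleton_or_nontrivial V with h | h
  · exact Subsingleton.elim _ _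
  · have := charP_end (p := p) (V := V)
    exact PLocal.QuadSection.pow_eq_one_of_sq _ ht

theorem quad_conj {ρ : E →* Module.End (ZMod p) V} {t : E} (ht : (ρ t - 1) ^ 2 = 0) (y : E) :
    (ρ (y * t * y⁻¹) - 1) ^ 2 = 0 := by
  have h1 : ρ (y * t * y⁻¹) - 1 = ρ y * (ρ t - 1) * ρ y⁻¹ := by
    rw [mul_sub, sub_mul, mul_one, ← map_mul, ← map_mul, ← map_mul, mul_inv_cancel, map_one]
  have h2 : ρ y⁻¹ * ρ y = 1 := by rw [← map_mul, inv_mul_cancel, map_one]
  rw [h1, pow_two]
  calc ρ y * (ρ t - 1) * ρ y⁻¹ * (ρ y * (ρ t - 1) * ρ y⁻¹)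
      = ρ y * (ρ t - 1) * (ρ y⁻¹ * ρ y) * (ρ t - 1) * ρ y⁻¹ := by simp only [mul_assoc]
    _ = ρ y * ((ρ t - 1) ^ 2) * ρ y⁻¹ := by rw [h2, mul_one, pow_two]; simp only [mul_assoc]
    _ = 0 := by rw [ht, mul_zero, zero_mul]

/-- two quadratic elements not generating a `p`-group: a section `SL(2, p)` -/
theorem exists_sl (hp2 : p ≠ 2) {ρ : E →* Module.End (ZMod p) V} (hρ : Function.Injective ρ) {t s : E}
    (ht : (ρ t - 1) ^ 2 = 0) (hs : (ρ s - 1) ^ 2 = 0) (hnp : ¬ IsPGroup p (closure ({t, s} : Set E))) :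
    ∃ (L : Subgroup (closure ({t, s} : Set E))) (f : L →* Matrix.SpecialLinearGroup (Fin 2) (ZMod p)),
      Function.Surjective f := by
  have htL : t ∈ _root_.Subgroup.closure ({t, s} : Set E) := _root_.Subgroup.subset_closure (by simp)
  have hsL : s ∈ _root_.Subgroup.closure ({t, s} : Set E) := _root_.Subgroup.subset_closure (by simp)
  have hgen : _root_.Subgroup.closure ({⟨t, htL⟩, ⟨s, hsL⟩} : Set (closure ({t, s} : Set E))) = ⊤ := by
    apply Subgroup.map_injective (_root_.Subgroup.closure ({t, s} : Set E)).subtype_injective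
    rw [MonoidHom.map_closure, Set.image_pair, ← MonoidHom.range_eq_map, Subgroup.range_subtype]
    rfl
  obtain ⟨g, hg⟩ : ∃ g : closure ({t, s} : Set E), ¬ ∃ k : ℕ, g ^ p ^ k = 1 := by
    by_contra hc
    push Not at hc
    exact hnp hc
  obtain ⟨L, f, hf, -⟩ := PLocal.QuadSection.exists_hom_sl_two_zmod hp2 (⟨t, htL⟩ : closure ({t, s} : Set E))
    ⟨s, hsL⟩ hgen (ρ.comp (closure ({t, s} : Set E)).subtype) (quad_apply ht) (quad_apply hs) g (by
      rintro ⟨k, hk⟩
      apply hg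
      refine ⟨k, Subtype.ext (hρ ?_)⟩
      have h1 : ρ (g : E) ^ p ^ k = 1 := hk
      rw [Subgroup.coe_pow, map_pow, h1, Subgroup.coe_one, map_one])
  exact ⟨L, f, hf⟩

theorem dvd_card_sl : p ∣ Nat.card (Matrix.SpecialLinearGroup (Fin 2) (ZMod p)) := by
  have h1 : (PLocal.SL2Gen.up (1 : ZMod p)) ^ p = 1 := by
    rw [← PLocal.SL2Gen.up_nsmul, nsmul_one, CharP.cast_eq_zero, PLocal.SL2Gen.up_zero]
  have h2 : PLocal.SL2Gen.up (1 : ZMod p) ≠ 1 := by
    intro h
    have := congrFun (congrFun (congrArg Subtype.val h) 0) 1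
    simp [PLocal.SL2Gen.up] at this
  have h3 := _root_.orderOf_dvd_natCard (PLocal.SL2Gen.up (1 : ZMod p))
  rwa [orderOf_eq_prime h1 h2] at h3

theorem three_dvd_sl : 3 ∣ Nat.card (Matrix.SpecialLinearGroup (Fin 2) (ZMod p)) := by
  let g : Matrix.SpecialLinearGroup (Fin 2) (ZMod p) := ⟨!![0, -1; 1, -1], by simp [Matrix.det_fin_two]⟩
  have h1 : g ^ 3 = 1 := by
    apply Subtype.ext
    rw [pow_succ, pow_two, Matrix.SpecialLinearGroup.coe_mul, Matrix.SpecialLinearGroup.coe_mul,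
      Matrix.SpecialLinearGroup.coe_one]
    change !![(0 : ZMod p), -1; 1, -1] * !![(0 : ZMod p), -1; 1, -1] * !![(0 : ZMod p), -1; 1, -1] = 1
    rw [Matrix.one_fin_two]
    ext i j
    (revert i j; simp only [Matrix.mul_apply, Fin.sum_univ_two, _root_.Fin.forall_fin_succ, _root_.Matrix.cons_mul, _root_.Nat.succ_eq_add_one, Nat.reduceAdd, _root_.Matrix.vecMul_cons, _root_.Matrix.head_cons, _root_.zero_smul, _root_.Matrix.tail_cons, _root_.neg_smul, _root_.one_smul, _root_.Matrix.neg_cons, _root_.neg_neg, _root_.Matrix.neg_empty, _root_.Matrix.empty_vecMul, _root_.add_zero, _root_.zero_add, _root_.Matrix.add_cons, _root_.neg_add_cancel, _root_.Matrix.empty_add_empty, _root_.Matrix.empty_mul, _root_.Equiv.symm_apply_apply, _root_.Matrix.of_apply, _root_.Matrix.cons_val', _root_.Matrix.cons_val_fin_one, Fin.isValue, _root_.Matrix.cons_val_zero, _root_.Matrix.cons_val_one, _root_.MulZeroClass.mul_zero, _root_.mul_one, _root_.Matrix.cons_val_succ,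 _root_.mul_neg, _root_.forall_const, _root_.true_and, _root_.add_neg_cancel, _root_.neg_zero, _root_.implies_true, _root_.and_self])
  have h2 : g ≠ 1 := by
    intro h
    have := congrFun (congrFun (congrArg Subtype.val h) 1) 0
    simp [g] at this
  have h3 := _root_.orderOf_dvd_natCard g
  rwa [orderOf_eq_prime h1 h2] at h3

/-- **A quadratic element centralises every `p'`-subgroup it normalises**, `p > 3`. -/
theorem comm_of_coprime (hp3 : 3 < p) {ρ : E →* Module.End (ZMod p) V} (hρ : Function.Injective ρ) {t : E}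
    (ht : (ρ t - 1) ^ 2 = 0) {Q : Subgroup E} (hQ : (Nat.card Q).Coprime p) (hn : ∀ y ∈ Q, t * y * t⁻¹ ∈ Q) :
    ∀ y ∈ Q, t * y = y * t := by
  intro y hy
  -- all the powers of `t` normalise `Q`
  have htN : t ∈ normalizer (Q : Set E) := by
    have h1 : Q.map (MulAut.conj t).toMonoidHom = Q := by
      refine eq_of_le_of_card_ge ?_ (le_of_eq (card_map_of_injective (MulAut.conj t).injective).symm)
      rintro _ ⟨z, hz, rfl⟩
      exact hn z hz
    rw [mem_normalizer_iff]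
    intro z
    constructor
    · exact hn z
    · intro hz
      rw [← h1] at hz
      obtain ⟨w, hw, hwz⟩ := hz
      have : w = z := (MulAut.conj t).injective hwz
      rwa [← this]
  have hpow : ∀ (i : ℤ), ∀ z ∈ Q, t ^ i * z * (t ^ i)⁻¹ ∈ Q := fun i z hz =>
    (mem_normalizer_iff.1 (Subgroup.zpow_mem _ htN i) z).1 hz
  have hform : ∀ e ∈ _root_.Subgroup.closure ({t, y * t * y⁻¹} : Set E), ∃ q ∈ Q, ∃ i : ℤ, e = q * t ^ i := by
    intro e he
    induction he using closure_induction with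
    | mem x hx =>
      rcases hx with rfl | hx
      · exact ⟨1, one_mem _, 1, by simp⟩
      · rw [Set.mem_singleton_iff] at hx
        subst hx
        exact ⟨y * (t * y⁻¹ * t⁻¹), mul_mem hy (hn _ (inv_mem hy)), 1, by group⟩
    | one => exact ⟨1, one_mem _, 0, by simp⟩
    | mul a b _ _ ha hb =>
      obtain ⟨q, hq, i, rfl⟩ := ha
      obtain ⟨q', hq', j, rfl⟩ := hb
      exact ⟨q * (t ^ i * q' * (t ^ i)⁻¹), mul_mem hq (hpow i q' hq'), i + j, by rw [_root_.zpow_add]; group⟩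
    | inv a _ ha =>
      obtain ⟨q, hq, i, rfl⟩ := ha
      refine ⟨t ^ (-i) * q⁻¹ * (t ^ (-i))⁻¹, hpow (-i) _ (inv_mem hq), -i, by group⟩
  have hcomm : ∀ a ∈ _root_.Subgroup.closure ({t, y * t * y⁻¹} : Set E), ∀ b ∈ closure ({t, y * t * y⁻¹} : Set E),
      a * b * a⁻¹ * b⁻¹ ∈ Q := by
    intro a ha b hb
    obtain ⟨q, hq, i, rfl⟩ := hform a ha
    obtain ⟨q', hq', j, rfl⟩ := hform b hb
    have e : q * t ^ i * (q' * t ^ j) * (q * t ^ i)⁻¹ * (q' * t ^ j)⁻¹ =
        q * (t ^ i * q' * (t ^ i)⁻¹) * (t ^ j * q⁻¹ * (t ^ j)⁻¹) * q'⁻¹ := by group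
    rw [e]
    exact mul_mem (mul_mem (mul_mem hq (hpow i q' hq')) (hpow j _ (inv_mem hq))) (inv_mem hq')
  have hpg : IsPGroup p (closure ({t, y * t * y⁻¹} : Set E)) := by
    by_contra hnp
    obtain ⟨L, f, hf⟩ := exists_sl (by omega) hρ ht (quad_conj ht y) hnp
    have h1 : (⊤ : Subgroup (Matrix.SpecialLinearGroup (Fin 2) (ZMod p))) ≤
        (Q.comap ((_root_.Subgroup.closure ({t, y * t * y⁻¹} : Set E)).subtype.comp L.subtype)).map f := by
      rw [← PLocal.SL2Perfect.commutator_eq_top (p := p) (by omega) (by omega), _root_.commutator_def,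
        Subgroup.commutator_le]
      intro a _ b _
      obtain ⟨a, rfl⟩ := hf a
      obtain ⟨b, rfl⟩ := hf b
      refine ⟨a * b * a⁻¹ * b⁻¹, ?_, by rw [map_mul, map_mul, map_mul, map_inv, map_inv]; rfl⟩
      exact hcomm a a.1.2 b b.1.2
    have h2 : Nat.card (Matrix.SpecialLinearGroup (Fin 2) (ZMod p)) ∣ Nat.card Q := by
      have h3 : Nat.card (Matrix.SpecialLinearGroup (Fin 2) (ZMod p)) =
          Nat.card ((Q.comap ((_root_.Subgroup.closure ({t, y * t * y⁻¹} : Set E)).subtype.comp L.subtype)).map f) := by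
        rw [top_le_iff.1 h1, Subgroup.card_top]
      rw [h3]
      refine (card_map_dvd _ _).trans ?_
      exact card_comap_dvd_of_injective Q _
        ((closure ({t, y * t * y⁻¹} : Set E)).subtype_injective.comp L.subtype_injective)
    have h4 : p ∣ Nat.card Q := dvd_card_sl.trans h2
    have h5 := (Nat.Prime.coprime_iff_not_dvd hp.out).1 hQ.symm
    exact h5 h4
  have hmem : y * t * y⁻¹ * t⁻¹ ∈ closure ({t, y * t * y⁻¹} : Set E) :=
    mul_mem (_root_.Subgroup.subset_closure (by simp)) (inv_mem (_root_.Subgroup.subset_closure (by simp)))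
  have hmemQ : y * t * y⁻¹ * t⁻¹ ∈ Q := by
    have e : y * t * y⁻¹ * t⁻¹ = y * (t * y⁻¹ * t⁻¹) := by group
    rw [e]
    exact mul_mem hy (hn _ (inv_mem hy))
  have h1 : y * t * y⁻¹ * t⁻¹ = 1 := by
    obtain ⟨k, hk⟩ := hpg ⟨_, hmem⟩
    have hk' : (y * t * y⁻¹ * t⁻¹) ^ p ^ k = 1 := congrArg Subtype.val hk
    have h2 : orderOf (y * t * y⁻¹ * t⁻¹) ∣ Nat.card Q := by
      have := _root_.orderOf_dvd_natCard (⟨_, hmemQ⟩ : Q)
      rwa [← Subgroup.orderOf_coe] at this
    exact orderOf_eq_one_iff.1 (Nat.eq_one_of_dvd_coprimes (hQ.pow_right k) h2 (orderOf_dvd_of_pow_eq_one hk'))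
  rw [mul_inv_eq_one, mul_inv_eq_iff_eq_mul] at h1
  exact h1.symm

end Linear

/-- `l` is a quadratic element of the perfect group `L ≤ GL(V)` over `ZMod p`, and `π : L → K` is surjective with
a central kernel of order prime to `p`. -/
structure QD {p : ℕ} {L : Type u} [Group L] {V : Type v} [AddCommGroup V] [Module (ZMod p) V] {K : Type w} [Group K]
    (ρ : L →* Module.End (ZMod p) V) (π : L →* K) (l : L) : Prop where
  inj : Function.Injective ρ
  sq : (ρ l - 1) ^ 2 = 0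
  surj : Function.Surjective π
  cen : π.ker ≤ center L
  perf : commutator L = ⊤
  cop : (Nat.card π.ker).Coprime p

namespace QD

variable {p : ℕ} [hp : Fact p.Prime] {L : Type u} [Group L] [Finite L] {V : Type v} [AddCommGroup V]
  [Module (ZMod p) V] [Finite V] {K : Type w} [Group K]
  {ρ : L →* Module.End (ZMod p) V} {π : L →* K} {l : L}

theorem pow_eq (h : QD ρ π l) : (π l) ^ p = 1 := by
  rw [← map_pow, pow_eq_one h.inj h.sq, map_one]

/-- the `p'`-subgroups of `K` normalised by `π l` are centralised -/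
theorem comm (h : QD ρ π l) (hp3 : 3 < p) {Y : Subgroup K} (hY : (Nat.card Y).Coprime p)
    (hn : ∀ y ∈ Y, π l * y * (π l)⁻¹ ∈ Y) : ∀ y ∈ Y, π l * y = y * π l := by
  have h1 : (Nat.card (Y.comap π)).Coprime p := by
    rw [Nat.coprime_comm, Nat.Prime.coprime_iff_not_dvd hp.out]
    intro hd
    obtain ⟨z, hz⟩ := exists_prime_orderOf_dvd_card' (G := Y.comap π) p hd
    have hz' : orderOf (z : L) = p := by rw [Subgroup.orderOf_coe, hz]
    have h2 : orderOf (π (z : L)) ∣ p := by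
      rw [← hz']
      exact orderOf_map_dvd π _
    have h3 : orderOf (π (z : L)) ∣ Nat.card Y := by
      have := _root_.orderOf_dvd_natCard (⟨π (z : L), z.2⟩ : Y)
      rwa [← Subgroup.orderOf_coe] at this
    have h4 : π (z : L) = 1 := orderOf_eq_one_iff.1 (Nat.eq_one_of_dvd_coprimes hY h3 h2)
    have h5 : orderOf (z : L) ∣ Nat.card π.ker := by
      have := _root_.orderOf_dvd_natCard (⟨(z : L), h4⟩ : π.ker)
      rwa [← Subgroup.orderOf_coe] at this
    rw [hz'] at h5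
    exact (Nat.Prime.coprime_iff_not_dvd hp.out).1 h.cop.symm h5
  intro y hy
  obtain ⟨y, rfl⟩ := h.surj y
  have h2 := comm_of_coprime hp3 h.inj h.sq h1 (fun z hz => by
    change π (l * z * l⁻¹) ∈ Y
    rw [map_mul, map_mul, map_inv]
    exact hn _ hz) y hy
  rw [← map_mul, h2, map_mul]

/-- Baer–Suzuki -/
theorem exists_conj (h : QD ρ π l) [IsSimpleGroup K] (hne : π l ≠ 1) :
    ∃ g : L, ¬ IsPGroup p (closure ({l, g * l * g⁻¹} : Set L)) := by
  by_contra hcon
  push Not at hcon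
  have hl := pow_eq_one h.inj h.sq
  have hfinK : Finite K := Finite.of_surjective π h.surj
  have hz : IsPGroup p (zpowers l) := by
    rintro ⟨_, i, rfl⟩
    refine ⟨1, Subtype.ext ?_⟩
    change (l ^ i) ^ p ^ 1 = 1
    rw [pow_one, ← zpow_natCast, ← _root_.zpow_mul, mul_comm, _root_.zpow_mul, zpow_natCast, hl, _root_.one_zpow]
  obtain ⟨N, hN, hNp, hle⟩ := S0199.result (zpowers l) hz (fun g => by
    have h1 := hcon g
    have h2 : zpowers l ⊔ (zpowers l).map (MulAut.conj g).toMonoidHom = _root_.Subgroup.closure ({l, g * l * g⁻¹} : Set L) := by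
      rw [MonoidHom.map_zpowers, zpowers_eq_closure, zpowers_eq_closure, ← Subgroup.closure_union, Set.singleton_union]
      rfl
    rw [h2]
    exact h1)
  have hlN : l ∈ N := hle (mem_zpowers l)
  have hNK : (N.map π).Normal := hN.map π h.surj
  rcases hNK.eq_bot_or_eq_top with h1 | h1
  · apply hne
    have : π l ∈ N.map π := ⟨l, hlN, rfl⟩
    rw [h1] at this
    exact this
  · -- `K` would be a perfect `p`-group
    have hKp : IsPGroup p K := by
      have h2 : IsPGroup p (⊤ : Subgroup K) := by rw [← h1]; exact hNp.map _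
      intro x
      obtain ⟨k, hk⟩ := h2 ⟨x, trivial⟩
      exact ⟨k, congrArg Subtype.val hk⟩
    have hnil : Group.IsNilpotent K := hKp.isNilpotent
    have hKc : commutator K = ⊤ := by
      rw [_root_.commutator_def, ← Subgroup.map_top_of_surjective π h.surj, ← Subgroup.map_commutator,
        ← _root_.commutator_def, h.perf]
    have hsol : Group.IsSolvable K := inferInstance
    have := hsol.commutator_lt_top_of_nontrivial
    exact this.ne hKc

/-- an involution commuting with `l` -/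
theorem exists_involution (h : QD ρ π l) (hp2 : p ≠ 2) [IsSimpleGroup K] (hne : π l ≠ 1) :
    ∃ j : L, j ≠ 1 ∧ j * j = 1 ∧ j * l = l * j := by
  obtain ⟨g, hg⟩ := h.exists_conj hne
  obtain ⟨j, -, h1, h2, h3, -⟩ := H879.QuadPair.exists_involution hp2 ρ h.inj h.sq (quad_conj h.sq g) hg
  exact ⟨j, h1, h2, h3⟩

theorem three_dvd (h : QD ρ π l) (hp2 : p ≠ 2) [IsSimpleGroup K] (hne : π l ≠ 1) : 3 ∣ Nat.card L := by
  obtain ⟨g, hg⟩ := h.exists_conj hne
  obtain ⟨L', f, hf⟩ := exists_sl hp2 h.inj h.sq (quad_conj h.sq g) hg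
  have h1 : Nat.card (Matrix.SpecialLinearGroup (Fin 2) (ZMod p)) ∣ Nat.card L' :=
    card_dvd_of_surjective f hf
  exact three_dvd_sl.trans (h1.trans ((card_subgroup_dvd_card _).trans (card_subgroup_dvd_card _)))

/-- the Sylow `2`-subgroups of `L` are not abelian -/
theorem sylow_two (h : QD ρ π l) (hp3 : 3 < p) [IsSimpleGroup K] (hne : π l ≠ 1)
    (hT : ∀ T : Subgroup L, IsPGroup 2 T → ∀ x ∈ T, ∀ y ∈ T, x * y = y * x) : False := by
  have h2p : Fact (Nat.Prime 2) := ⟨Nat.prime_two⟩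
  obtain ⟨g, hg⟩ := h.exists_conj hne
  obtain ⟨L', f, hf⟩ := exists_sl (by omega) h.inj h.sq (quad_conj h.sq g) hg
  obtain ⟨T⟩ : Nonempty (Sylow 2 L') := inferInstance
  let T' := T.mapSurjective hf
  have h1 : IsPGroup p (Matrix.SpecialLinearGroup (Fin 2) (ZMod p)) := by
    refine PLocal.SLTwoSylow.isPGroup_of_sylow_two_comm (k := ZMod p) (by omega) (MonoidHom.id _)
      Function.injective_id ?_ T' ?_
    · refine PLocal.SL2Gen.eq_top_of_forall _ (fun t => subset_closure ⟨1, ?_⟩) (fun t => subset_closure ⟨1, ?_⟩)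
      · rw [pow_one, ← PLocal.SL2Gen.up_nsmul, nsmul_eq_mul, CharP.cast_eq_zero, zero_mul, PLocal.SL2Gen.up_zero]
      · rw [pow_one, ← PLocal.SL2Gen.lo_nsmul, nsmul_eq_mul, CharP.cast_eq_zero, zero_mul, PLocal.SL2Gen.lo_zero]
    · rintro x ⟨x, hx, rfl⟩ y ⟨y, hy, rfl⟩
      have h3 := hT (((T : Subgroup L').map L'.subtype).map (_root_.Subgroup.closure ({l, g * l * g⁻¹} : Set L)).subtype)
        ((T.isPGroup'.map _).map _) _ ⟨_, ⟨x, hx, rfl⟩, rfl⟩ _ ⟨_, ⟨y, hy, rfl⟩, rfl⟩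
      have h4 : x * y = y * x := Subtype.ext (Subtype.ext h3)
      rw [← map_mul, h4, map_mul]
  have h3 : 3 ∣ Nat.card (Matrix.SpecialLinearGroup (Fin 2) (ZMod p)) := three_dvd_sl
  obtain ⟨n, hn⟩ := IsPGroup.iff_card.1 h1
  rw [hn] at h3
  have := (Nat.prime_dvd_prime_iff_eq Nat.prime_three hp.out).1 (Nat.prime_three.dvd_of_dvd_pow h3)
  omega

end QD

end Cfsg.Agent.H25.S30
end

-- part: H21/NoRTwo
section
/-!
# Even multipliers and coprime automorphisms

A simple group of Lie type in characteristic 2, not a Suzuki group, with a nontrivial `r`-group of automorphisms,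
`r ∤ |K|`, has a multiplier of odd order: the exceptions to "the multiplier in characteristic 2 is odd" have an outer
automorphism group of order `2^a 3^b`.
-/

set_option autoImplicit false

namespace Cfsg.Agent.H21.NoRTwo

open Cfsg Cfsg.Agent.H912.Bd Cfsg.Agent.H254

universe u v w

/-- all primes dividing `|Aut K|` divide `|K|` -/
def PA (K : Type*) [Group K] : Prop := ∀ s : ℕ, s.Prime → s ∣ Nat.card (MulAut K) → s ∣ Nat.card K

theorem PA.of_equiv {K : Type v} [Group K] {M : Type w} [Group M] (e : K ≃* M) {c : ℕ}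
    (hc : ∀ s : ℕ, s.Prime → s ∣ c → s = 2 ∨ s = 3) (h : Nat.card (MulAut M) = c * Nat.card M)
    (h2 : 2 ∣ Nat.card K) (h3 : 3 ∣ Nat.card K) : PA K := by
  intro s hs hd
  have h4 : Nat.card (MulAut K) = Nat.card (MulAut M) := Nat.card_congr (MulAut.congr e).toEquiv
  have h5 : Nat.card K = Nat.card M := Nat.card_congr e.toEquiv
  rw [h4, h, ← h5] at hd
  rcases hs.dvd_mul.1 hd with h6 | h6
  · rcases hc s hs h6 with rfl | rfl
    · exact h2
    · exact h3
  · exact h6

theorem PA.of_out {K : Type v} [Group K] [Finite K] [IsSimpleGroup K] (hna : ¬ IsMulCommutative K)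
    {M : Type w} [Group M] (e : K ≃* M) {c : ℕ}
    (hc : ∀ s : ℕ, s.Prime → s ∣ c → s = 2 ∨ s = 3) (h : Nat.card (Cfsg.Out M) = c)
    (h2 : 2 ∣ Nat.card K) (h3 : 3 ∣ Nat.card K) : PA K := by
  have hf : Finite M := Finite.of_equiv K e.toEquiv
  have hs : IsSimpleGroup M := e.symm.isSimpleGroup
  have hna' : ¬ IsMulCommutative M := by
    intro hcm
    apply hna
    refine ⟨⟨fun a b => e.injective ?_⟩⟩
    rw [map_mul, map_mul]
    exact hcm.is_comm.comm _ _
  refine PA.of_equiv e hc ?_ h2 h3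
  rw [← card_out hna', h]

theorem prime_dvd {c a b : ℕ} (hc : c = 2 ^ a * 3 ^ b) : ∀ s : ℕ, s.Prime → s ∣ c → s = 2 ∨ s = 3 := by
  intro s hs hd
  rw [hc] at hd
  rcases hs.dvd_mul.1 hd with h | h
  · exact Or.inl ((Nat.prime_dvd_prime_iff_eq hs Nat.prime_two).1 (hs.dvd_of_dvd_pow h))
  · exact Or.inr ((Nat.prime_dvd_prime_iff_eq hs Nat.prime_three).1 (hs.dvd_of_dvd_pow h))

theorem pa_l {K : Type v} [Group K] (n f : ℕ) (hn : 2 ≤ n) (hf : 1 ≤ f) (h4 : n = 2 → 4 ≤ 2 ^ f)
    (h : IsL n (2 ^ f) K) (h2 : 2 ∣ Nat.card K) (h3 : 3 ∣ Nat.card K) (a b : ℕ)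
    (hab : (if n = 2 then 1 else 2) * f * Nat.gcd n (2 ^ f - 1) = 2 ^ a * 3 ^ b) : PA K := by
  obtain ⟨F, _, _, hF, ⟨e⟩⟩ := h
  refine PA.of_equiv e (prime_dvd hab) ?_ h2 h3
  have h5 : Fact (Nat.Prime 2) := ⟨Nat.prime_two⟩
  rw [S0813.result 2 f hf hF n hn h4, H183.OutPSL.card_pgl_eq hn, hF]
  ring

theorem pa_u {K : Type v} [Group K] (n : ℕ) (hn : 3 ≤ n) (h32 : n ≠ 3)
    (h : IsU n 2 K) (h2 : 2 ∣ Nat.card K) (h3 : 3 ∣ Nat.card K) (a b : ℕ)
    (hab : Nat.gcd n 3 * 2 = 2 ^ a * 3 ^ b) : PA K := by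
  obtain ⟨F, _, _, hF, ⟨e⟩⟩ := h
  refine PA.of_equiv e (prime_dvd hab) ?_ h2 h3
  have h5 : Fact (Nat.Prime 2) := ⟨Nat.prime_two⟩
  rw [S0815.result 2 1 le_rfl (by norm_num) hF n hn (fun h => h32 h.1)]

/-- the exceptions have no coprime automorphisms -/
theorem pa_of_excMult {K : Type v} [Group K] [Finite K] [IsSimpleGroup K] (hna : ¬ IsMulCommutative K)
    (h : ExcMult 2 K) (hsz : ¬ Lie.IsoSuzuki K) (h2 : 2 ∣ Nat.card K) (h3 : 3 ∣ Nat.card K) : PA K := by
  have hp : Fact (Nat.Prime 2) := ⟨Nat.prime_two⟩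
  rcases h with ⟨-, h⟩ | ⟨h, -⟩
  swap
  · omega
  rcases h with h | h | h | h | h | h | h | h | h | h | h | h
  · exact pa_l 2 2 (by norm_num) (by norm_num) (by norm_num) h h2 h3 1 0 (by norm_num)
  · exact pa_l 3 1 (by norm_num) (by norm_num) (by norm_num) h h2 h3 1 0 (by norm_num)
  · exact pa_l 3 2 (by norm_num) (by norm_num) (by norm_num) h h2 h3 2 1 (by norm_num)
  · exact pa_l 4 1 (by norm_num) (by norm_num) (by norm_num) h h2 h3 1 0 (by norm_num)
  · exact pa_u 4 (by norm_num) (by norm_num) h h2 h3 1 0 (by norm_num)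
  · exact pa_u 6 (by norm_num) (by norm_num) h h2 h3 1 1 (by norm_num)
  · obtain ⟨F, _, _, hF, ⟨e⟩⟩ := h
    refine PA.of_equiv e (c := 1) (prime_dvd (a := 0) (b := 0) (by norm_num)) ?_ h2 h3
    rw [S0814.result 2 1 le_rfl hF 3 (by norm_num) (by norm_num)]
    norm_num
  · obtain ⟨F, _, _, hF, ⟨e⟩⟩ := h
    refine PA.of_equiv e (c := 6) (prime_dvd (a := 1) (b := 1) (by norm_num)) ?_ h2 h3
    rw [S0817.result 2 1 le_rfl hF 4 (by norm_num)]
    norm_num only [_root_.ite_true, _root_.mul_one]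
  · obtain ⟨F, _, _, hF, ⟨e⟩⟩ := h
    have : CharP F 2 := charP_of_card_eq_prime_pow (f := 2) hF
    refine PA.of_out hna e (c := 2) (prime_dvd (a := 1) (b := 0) (by norm_num)) ?_ h2 h3
    rw [S2121.result 2 2 hF (by norm_num)]
    norm_num
  · obtain ⟨F, _, _, hF, ⟨e⟩⟩ := h
    have : CharP F 2 := charP_of_card_eq_prime_pow (f := 1) hF
    refine PA.of_out hna e (c := 2) (prime_dvd (a := 1) (b := 0) (by norm_num)) ?_ h2 h3
    rw [S2122.result 2 1 hF]
    norm_num
  · obtain ⟨F, _, _, hF, ⟨e⟩⟩ := h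
    have : CharP F 2 := charP_of_card_eq_prime_pow (f := 2) hF
    refine PA.of_out hna e (c := 6) (prime_dvd (a := 1) (b := 1) (by norm_num)) ?_ h2 h3
    have h5 := S2130.result (K := F) 2 1 hF le_rfl
    rw [pow_one] at h5
    rw [h5]
    norm_num
  · exfalso
    obtain ⟨F, _, _, hF, ⟨e⟩⟩ := h
    exact hsz ⟨F, inferInstance, inferInstance, 1, le_rfl, hF, ⟨e⟩⟩

/-- a group with a split (B,N)-pair is not abelian of order divisible by `p` -/
theorem dvd_card_of_hasSplit {K : Type u} [Group K] [Finite K] {p : ℕ} [hp : Fact p.Prime]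
    (h : FixBN.HasSplit p K) : p ∣ Nat.card K := by
  obtain ⟨P, U, ⟨s, hs⟩, h⟩ := h
  obtain ⟨V, hV⟩ := h.node s hs
  obtain ⟨u, hu, huV⟩ := hV.ne
  obtain ⟨k, hk⟩ := h.isP ⟨u, hu⟩
  have h1 : u ^ p ^ k = 1 := by simpa only [_root_.SubmonoidClass.mk_pow, _root_.OneMemClass.coe_one] using congrArg Subtype.val hk
  obtain ⟨j, hj, hj2⟩ := (Nat.dvd_prime_pow hp.1).1 (orderOf_dvd_of_pow_eq_one h1)
  have h3 : p ∣ orderOf u := by
    rw [hj2]
    apply dvd_pow_self
    rintro rfl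
    rw [pow_zero, orderOf_eq_one_iff] at hj2
    exact huV (by rw [hj2]; exact one_mem _)
  exact h3.trans (orderOf_dvd_natCard u)

theorem not_comm_of_split {p : ℕ} {K : Type u} [Group K] (h : FixBN.HasSplit p K) : ¬ IsMulCommutative K := by
  obtain ⟨P, U, ⟨s, hs⟩, -⟩ := h
  intro hc
  have hcm : ∀ a b : K, a * b = b * a := hc.is_comm.comm
  apply P.conj_ne s hs
  have h2 := P.sq_mem s hs
  ext b
  constructor
  · rintro ⟨x, hx, rfl⟩
    have h3 : s * x * s = x * (s * s) := by rw [hcm s x, mul_assoc]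
    change s * x * s ∈ P.B
    rw [h3]
    exact mul_mem hx h2
  · intro hb
    refine ⟨b * (s * s)⁻¹, mul_mem hb (inv_mem h2), ?_⟩
    change s * (b * (s * s)⁻¹) * s = b
    rw [hcm s, mul_assoc, mul_assoc, inv_mul_cancel, mul_one]

/-- **The multiplier is odd in the presence of coprime automorphisms.** -/
theorem noR_two {K : Type v} [Group K] [Finite K] [IsSimpleGroup K] (hK : Cfsg.IsLieTypeChar 2 K)
    (hsz : ¬ Lie.IsoSuzuki K) {r : ℕ} [hr' : Fact r.Prime] (hr : ¬ r ∣ Nat.card K) (A : Subgroup (MulAut K))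
    (hA : IsPGroup r A) (hne : A ≠ ⊥) : NoR.{u} 2 K := by
  have hp : Fact (Nat.Prime 2) := ⟨Nat.prime_two⟩
  rcases noR_of_lieTypeChar.{u} Nat.prime_two hK with hE | h
  swap
  · exact h
  exfalso
  have hs := H996.AllSplit.hasSplit_of_lie Nat.prime_two hK
  have hna := not_comm_of_split hs
  have h2 : 2 ∣ Nat.card K := dvd_card_of_hasSplit hs
  have h3 : 3 ∣ Nat.card K := by
    by_contra h3
    exact hsz (ThreePrime.Main.isoSuzuki' hna h3)
  apply hne
  refine CopTriv.of_card (pa_of_excMult hna hE hsz h2 h3) A ?_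
  obtain ⟨n, hn⟩ := IsPGroup.iff_card.1 hA
  rw [hn]
  exact Nat.Coprime.pow_left n ((Nat.Prime.coprime_iff_not_dvd hr'.out).2 hr)

end Cfsg.Agent.H21.NoRTwo
end

-- part: H21/InterSyl
section
/-!
# The invariant Sylow `p`-subgroups of a group of Lie type in characteristic `p` meet trivially

`inter_sylow_eq_one` : `K` simple of Lie type in characteristic `p`, `B` an `r`-group of automorphisms, `r ∤ |K|`:
an element lying in every `B`-invariant Sylow `p`-subgroup is trivial.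
-/

set_option autoImplicit false

namespace Cfsg.Agent.H21.InterSyl

open Cfsg Cfsg.Agent.H498

/-- Two `B`-invariant Sylow `p`-subgroups with trivial intersection. -/
theorem exists_invariant_pair {K : Type*} [Group K] [Finite K] {p r : ℕ} [Fact p.Prime] [Fact r.Prime]
    (hK : SplitOpp.OppTrans p K) (hr : ¬ r ∣ Nat.card K) (B : Subgroup (MulAut K)) (hB : IsPGroup r B) :
    ∃ P Q : Sylow p K, (P : Subgroup K) ⊓ Q = ⊥ ∧ (∀ a ∈ B, ∀ g ∈ P, a g ∈ P) ∧
      ∀ a ∈ B, ∀ g ∈ Q, a g ∈ Q := by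
  obtain ⟨P, Q, hPQ, -, htr⟩ := hK
  let Ω : SubMulAction (MulAut K) (Sylow p K × Sylow p K) :=
    { carrier := {t | (t.1 : Subgroup K) ⊓ (t.2 : Subgroup K) = ⊥}
      smul_mem' := by
        intro c t ht
        show ((c • t.1 : Sylow p K) : Subgroup K) ⊓ ((c • t.2 : Sylow p K) : Subgroup K) = ⊥
        have ht' : (t.1 : Subgroup K) ⊓ (t.2 : Subgroup K) = ⊥ := ht
        rw [Sylow.pointwise_smul_def, Sylow.pointwise_smul_def]
        rw [← Subgroup.smul_inf, ht', Subgroup.smul_bot] }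
  -- the orbit of `(P, Q)` under `K`
  have hcard : Nat.card Ω ∣ Nat.card K := by
    have h1 : (MulAction.orbit K (P, Q)) = {t : Sylow p K × Sylow p K | (t.1 : Subgroup K) ⊓ (t.2 : Subgroup K) = ⊥} := by
      ext t
      constructor
      · rintro ⟨g, rfl⟩
        exact Ω.smul_mem (x := (P, Q)) (MulAut.conj g) hPQ
      · intro ht
        obtain ⟨g, hg1, hg2⟩ := htr t.1 t.2 ht
        exact ⟨g, Prod.ext hg1 hg2⟩
    have h2 : Nat.card Ω = Nat.card (MulAction.orbit K (P, Q)) := by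
      rw [h1]
      rfl
    have h3 : Nat.card (MulAction.orbit K (P, Q)) = (MulAction.stabilizer K (P, Q)).index :=
      (MulAction.index_stabilizer K (P, Q)).symm
    rw [h2, h3]
    exact Subgroup.index_dvd_card _
  have hΩ : ¬ r ∣ Nat.card Ω := fun h => hr (h.trans hcard)
  obtain ⟨ω, hω⟩ := hB.nonempty_fixed_point_of_prime_not_dvd_card Ω hΩ
  refine ⟨ω.1.1, ω.1.2, ω.2, ?_, ?_⟩
  · intro a ha g hg
    have h1 : (⟨a, ha⟩ : B) • ω = ω := hω ⟨a, ha⟩
    have h2 : a • ω.1.1 = ω.1.1 := congrArg (fun t : Ω => t.1.1) h1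
    rw [← h2]
    exact Subgroup.smul_mem_pointwise_smul g a _ hg
  · intro a ha g hg
    have h1 : (⟨a, ha⟩ : B) • ω = ω := hω ⟨a, ha⟩
    have h2 : a • ω.1.2 = ω.1.2 := congrArg (fun t : Ω => t.1.2) h1
    rw [← h2]
    exact Subgroup.smul_mem_pointwise_smul g a _ hg

/-- **The invariant Sylow `p`-subgroups meet trivially.** -/
theorem inter_sylow_eq_one {K : Type*} [Group K] [Finite K] [IsSimpleGroup K] {p r : ℕ} [hp : Fact p.Prime]
    [Fact r.Prime] (hK : Cfsg.IsLieTypeChar p K) (hr : ¬ r ∣ Nat.card K) (B : Subgroup (MulAut K))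
    (hB : IsPGroup r B) {x : K} (hx : ∀ P : Sylow p K, (∀ a ∈ B, ∀ g ∈ P, a g ∈ P) → x ∈ P) : x = 1 := by
  obtain ⟨P, Q, h1, h2, h3⟩ := exists_invariant_pair (LieFree.oppTrans_of_lieChar hp.out hK) hr B hB
  have h4 : x ∈ (P : Subgroup K) ⊓ Q := ⟨hx P h2, hx Q h3⟩
  rwa [h1, Subgroup.mem_bot] at h4

end Cfsg.Agent.H21.InterSyl
end

-- part: H21/QDLie
section
/-!
# Quadratic elements of the perfect central extensions of the groups of Lie type

`qd_lie`: a quadratic element `y` of a perfect linear group `L` over `ZMod p`, `p > 3`, with `L / Z ≅ K` of Lie type,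
whose image in `K` lies in all the Sylow `p`-subgroups invariant under a coprime `r`-group of automorphisms: the image is
trivial.
-/

set_option autoImplicit false

namespace Cfsg.Agent.H21.QDLie

open Cfsg Subgroup
open Cfsg.Agent.BpLieP.Big (LocChar)

/-- An element centralising the `p'`-subgroups which it normalises does not normalise a nontrivial `l`-subgroup. -/
theorem eq_one_of_locChar {K : Type*} [Group K] [Finite K] {p l : ℕ} [hp : Fact p.Prime] [hl : Fact l.Prime]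
    (hpl : l ≠ p) (hloc : LocChar l K) {x : K} (hxp : x ^ p = 1)
    (hcomm : ∀ Y : Subgroup K, (Nat.card Y).Coprime p → (∀ y ∈ Y, x * y * x⁻¹ ∈ Y) → ∀ y ∈ Y, x * y = y * x)
    {E : Subgroup K} (hE : IsPGroup l E) (hE1 : E ≠ ⊥) (hn : ∀ e ∈ E, x * e * x⁻¹ ∈ E) : x = 1 := by
  have hcop : ∀ Y : Subgroup K, IsPGroup l Y → (Nat.card Y).Coprime p := by
    intro Y hY
    obtain ⟨n, hn⟩ := IsPGroup.iff_card.1 hY
    rw [hn]
    exact Nat.Coprime.pow_left n ((Nat.coprime_primes hl.out hp.out).2 hpl)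
  have h1 := hcomm E (hcop E hE) hn
  have hxN : x ∈ normalizer (E : Set K) := by
    refine centralizer_le_normalizer _ ?_
    rw [mem_centralizer_iff]
    intro e he
    exact (h1 e he).symm
  have hc := hloc E hE hE1
  have hOn : (pCore l ↥(normalizer (E : Set K))).Normal := Lib.Cores.pCore_normal l
  have hOp : IsPGroup l ↥(pCore l ↥(normalizer (E : Set K))) := Lib.Cores.pCore_isPGroup l
  have h2 := hcomm ((pCore l ↥(normalizer (E : Set K))).map (normalizer (E : Set K)).subtype)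
    (hcop _ (hOp.map _)) (by
      rintro _ ⟨z, hz, rfl⟩
      exact ⟨(⟨x, hxN⟩ * z * ⟨x, hxN⟩⁻¹ :), hOn.conj_mem z hz _, rfl⟩)
  have h3 : (⟨x, hxN⟩ : ↥(normalizer (E : Set K))) ∈
      centralizer (pCore l ↥(normalizer (E : Set K)) : Set ↥(normalizer (E : Set K))) := by
    rw [mem_centralizer_iff]
    intro z hz
    exact Subtype.ext (h2 z ⟨z, hz, rfl⟩).symm
  obtain ⟨k, hk⟩ := hOp ⟨_, hc h3⟩
  have hk' : x ^ l ^ k = 1 := congrArg Subtype.val (congrArg Subtype.val hk)
  have h4 : orderOf x = 1 := Nat.eq_one_of_dvd_coprimes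
    (((Nat.coprime_primes hl.out hp.out).2 hpl).pow_left k)
    (orderOf_dvd_of_pow_eq_one hk') (orderOf_dvd_of_pow_eq_one hxp)
  exact orderOf_eq_one_iff.1 h4

/-- the powers of an element -/
theorem isPGroup_zpowers {K : Type*} [Group K] {l : ℕ} {u : K} {k : ℕ} (hu : u ^ l ^ k = 1) :
    IsPGroup l (zpowers u) := by
  rintro ⟨_, i, rfl⟩
  refine ⟨k, Subtype.ext ?_⟩
  change (u ^ i) ^ l ^ k = 1
  rw [← zpow_natCast, ← _root_.zpow_mul, mul_comm, _root_.zpow_mul, zpow_natCast, hu, _root_.one_zpow]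

theorem eq_one_of_locChar_elt {K : Type*} [Group K] [Finite K] {p l : ℕ} [hp : Fact p.Prime] [hl : Fact l.Prime]
    (hpl : l ≠ p) (hloc : LocChar l K) {x : K} (hxp : x ^ p = 1)
    (hcomm : ∀ Y : Subgroup K, (Nat.card Y).Coprime p → (∀ y ∈ Y, x * y * x⁻¹ ∈ Y) → ∀ y ∈ Y, x * y = y * x)
    {u : K} {k : ℕ} (hu : u ^ l ^ k = 1) (hu1 : u ≠ 1) (hn : u * x = x * u) : x = 1 := by
  refine eq_one_of_locChar hpl hloc hxp hcomm (isPGroup_zpowers hu) (fun h => hu1 (zpowers_eq_bot.1 h)) ?_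
  rintro _ ⟨i, rfl⟩
  refine ⟨i, ?_⟩
  have h1 : Commute x (u ^ i) := Commute.zpow_right hn.symm i
  change u ^ i = x * u ^ i * x⁻¹
  rw [h1.eq, mul_inv_cancel_right]

/-- an element of all the Sylow `p`-subgroups of a nonabelian simple group is trivial -/
theorem eq_one_of_mem_all {K : Type*} [Group K] [Finite K] [IsSimpleGroup K] (hna : ∃ a b : K, a * b ≠ b * a)
    {p : ℕ} [hp : Fact p.Prime] {x : K} (hx : ∀ Q : Sylow p K, x ∈ Q) : x = 1 := by
  obtain ⟨Q⟩ : Nonempty (Sylow p K) := inferInstance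
  have h1 : normalClosure ({x} : Set K) ≤ Q := by
    rw [normalClosure, closure_le]
    intro z hz
    rw [Group.mem_conjugatesOfSet_iff] at hz
    obtain ⟨a, ha, hc⟩ := hz
    rw [Set.mem_singleton_iff] at ha
    subst ha
    rw [isConj_iff] at hc
    obtain ⟨g, rfl⟩ := hc
    have h2 := hx (g⁻¹ • Q)
    have h3 : a ∈ ((g⁻¹ • Q : Sylow p K) : Subgroup K) := h2
    rw [Sylow.coe_subgroup_smul, Subgroup.mem_pointwise_smul_iff_inv_smul_mem] at h3
    have h4 : (MulAut.conj g⁻¹)⁻¹ • a = g * a * g⁻¹ := by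
      rw [← map_inv, MulAut.smul_def, MulAut.conj_apply, inv_inv]
    rwa [h4] at h3
  rcases (normalClosure_normal (s := ({x} : Set K))).eq_bot_or_eq_top with h2 | h2
  · have h3 : x ∈ normalClosure ({x} : Set K) := subset_normalClosure rfl
    rwa [h2, mem_bot] at h3
  · exfalso
    rw [h2, top_le_iff] at h1
    have hKp : IsPGroup p K := by
      intro z
      obtain ⟨k, hk⟩ := Q.isPGroup' ⟨z, by rw [h1]; trivial⟩
      exact ⟨k, congrArg Subtype.val hk⟩
    have hnil : Group.IsNilpotent K := hKp.isNilpotent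
    have hsol : Group.IsSolvable K := inferInstance
    have hnt : Nontrivial K := inferInstance
    have hlt := hsol.commutator_lt_top_of_nontrivial
    have hnorm : (commutator K).Normal := inferInstance
    rcases hnorm.eq_bot_or_eq_top with h3 | h3
    · obtain ⟨a, b, hab⟩ := hna
      apply hab
      have h4 : a * b * a⁻¹ * b⁻¹ ∈ commutator K := Subgroup.commutator_mem_commutator (mem_top a) (mem_top b)
      rw [h3, mem_bot, mul_inv_eq_one, mul_inv_eq_iff_eq_mul] at h4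
      exact h4
    · exact hlt.ne h3

/-- a subgroup of `Aut K` fixing `u`, `u` isolated: `u` centralises the intersection of the invariant Sylows -/
theorem comm_of_iso {K : Type*} [Group K] [Finite K] {p l r : ℕ} [hp : Fact p.Prime] [hr' : Fact r.Prime]
    (hp2 : p ≠ 2) (hpl : p ≠ l) (hr : ¬ r ∣ Nat.card K) (B : Subgroup (MulAut K)) (hB : IsPGroup r B) {u : K}
    (huB : ∀ a ∈ B, a u = u) (hu : H25.UFDef.Iso l u) {x : K}
    (hx : ∀ Q : Sylow p K, (∀ β ∈ B, ∀ k ∈ Q, β k ∈ Q) → x ∈ Q) : u * x = x * u := by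
  obtain ⟨P0, hP0⟩ : ∃ P0 : Subgroup K, P0 = ⨅ Q : {Q : Sylow p K // ∀ β ∈ B, ∀ k ∈ Q, β k ∈ Q}, (Q.1 : Subgroup K) :=
    ⟨_, rfl⟩
  obtain ⟨S, hS⟩ := Lib.PGroupCoprimeAction.exists_sylow_smul_eq (A := B) (H := K) hB hr p
  have hSi : ∀ β ∈ B, ∀ k ∈ S, β k ∈ S := by
    intro β hβ k hk
    have h1 := hS ⟨β, hβ⟩
    have h2 : ∀ T : Sylow p K, T = S → β k ∈ T → β k ∈ S := by
      rintro T rfl h
      exact h
    exact h2 _ h1 ⟨k, hk, rfl⟩
  have hP0S : P0 ≤ S := by
    rw [hP0]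
    exact iInf_le (fun Q : {Q : Sylow p K // ∀ β ∈ B, ∀ k ∈ Q, β k ∈ Q} => (Q.1 : Subgroup K)) ⟨S, hSi⟩
  have hP0p : IsPGroup p P0 := S.isPGroup'.to_le hP0S
  have hxP0 : x ∈ P0 := by
    rw [hP0, mem_iInf]
    rintro ⟨Q, hQ⟩
    exact hx Q hQ
  refine hu p hp.out hp2 hpl P0 hP0p ?_ x hxP0
  intro g hg
  rw [hP0, mem_iInf] at hg ⊢
  rintro ⟨Q, hQ⟩
  have hQ' : ∀ β ∈ B, ∀ k ∈ (u⁻¹ • Q : Sylow p K), β k ∈ (u⁻¹ • Q : Sylow p K) := by
    intro β hβ k hk
    have h3 : k ∈ ((u⁻¹ • Q : Sylow p K) : Subgroup K) := hk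
    have e : ∀ z : K, (MulAut.conj u⁻¹)⁻¹ • z = u * z * u⁻¹ := by
      intro z
      rw [← map_inv, MulAut.smul_def, MulAut.conj_apply, inv_inv]
    rw [Sylow.coe_subgroup_smul, Subgroup.mem_pointwise_smul_iff_inv_smul_mem, e] at h3
    change β k ∈ ((u⁻¹ • Q : Sylow p K) : Subgroup K)
    rw [Sylow.coe_subgroup_smul, Subgroup.mem_pointwise_smul_iff_inv_smul_mem, e]
    have h4 := hQ β hβ _ h3
    rwa [map_mul, map_mul, map_inv, huB β hβ] at h4
  have h5 := hg ⟨u⁻¹ • Q, hQ'⟩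
  change g ∈ ((u⁻¹ • Q : Sylow p K) : Subgroup K) at h5
  rw [Sylow.coe_subgroup_smul, Subgroup.mem_pointwise_smul_iff_inv_smul_mem, ← map_inv, MulAut.smul_def,
    MulAut.conj_apply, inv_inv] at h5
  exact h5

/-- the Sylow 2-subgroups of the Ree groups are abelian -/
theorem comm_of_ree {K : Type*} [Group K] [Finite K] (hree : Lie.IsoRee K) (T : Subgroup K) (hT : IsPGroup 2 T) :
    ∀ x ∈ T, ∀ y ∈ T, x * y = y * x := by
  obtain ⟨F, _, _, m, hm, hF, ⟨e⟩⟩ := hree
  have h2 : Fact (Nat.Prime 2) := ⟨Nat.prime_two⟩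
  have hfin : Finite ↥(Cfsg.Lie.twistedG2 F (3 ^ m)) := Finite.of_equiv K e.toEquiv
  obtain ⟨S, hS⟩ := (hT.map e.toMonoidHom).exists_le_sylow
  obtain ⟨hc, -⟩ := S1157.result hm hF S
  intro x hx y hy
  have h3 : e x ∈ S := hS ⟨x, hx, rfl⟩
  have h4 : e y ∈ centralizer ((S : Subgroup ↥(Cfsg.Lie.twistedG2 F (3 ^ m))) : Set ↥(Cfsg.Lie.twistedG2 F (3 ^ m))) := by
    rw [hc]
    exact hS ⟨y, hy, rfl⟩
  rw [mem_centralizer_iff] at h4
  apply e.injective
  rw [map_mul, map_mul]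
  exact h4 _ h3

/-- the multiplier of the Ree groups -/
theorem injective_of_ree {L K : Type*} [Group L] [Group K] {π : L →* K} (hree : Lie.IsoRee K)
    (hperf : commutator L = ⊤) (hs : Function.Surjective π) (hc : π.ker ≤ center L) : Function.Injective π := by
  obtain ⟨F, _, _, m, hm, hF, ⟨e⟩⟩ := hree
  have h1 : (e.toMonoidHom.comp π).ker = π.ker := by
    ext x
    rw [MonoidHom.mem_ker, MonoidHom.mem_ker, MonoidHom.comp_apply]
    exact map_eq_one_iff _ e.injective
  have h2 := H264.CoverOver.injective_of_trivial (S2113.result hm hF) hperf (e.toMonoidHom.comp π)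
    (e.surjective.comp hs) (by rw [h1]; exact hc)
  intro a b hab
  apply h2
  rw [MonoidHom.comp_apply, MonoidHom.comp_apply, hab]

/-- the multiplier of the Suzuki groups -/
theorem not_three_dvd_of_suzuki {L K : Type*} [Group L] [Group K] {π : L →* K} (hsz : Lie.IsoSuzuki K)
    (hperf : commutator L = ⊤) (hs : Function.Surjective π) (hc : π.ker ≤ center L) :
    ¬ 3 ∣ Nat.card π.ker := by
  obtain ⟨F, _, _, m, hm, hF, ⟨e⟩⟩ := hsz
  have h1 : (e.toMonoidHom.comp π).ker = π.ker := by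
    ext x
    rw [MonoidHom.mem_ker, MonoidHom.mem_ker, MonoidHom.comp_apply]
    exact map_eq_one_iff _ e.injective
  have hs' := e.surjective.comp hs
  have hc' : (e.toMonoidHom.comp π).ker ≤ center L := by rw [h1]; exact hc
  rw [← h1]
  rcases Nat.lt_or_ge m 2 with h2 | h2
  · obtain rfl : m = 1 := by omega
    have h3 := H264.CoverOver.card_ker_dvd (S2112.result (F := F) (by rw [hF]; norm_num)) hperf
      (e.toMonoidHom.comp π) hs' hc'
    have h4 : Nat.card (Multiplicative (ZMod 2 × ZMod 2)) = 4 := by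
      rw [Nat.card_congr (Multiplicative.toAdd (α := ZMod 2 × ZMod 2)), Nat.card_prod, Nat.card_zmod]
    rw [h4] at h3
    intro h5
    have := h5.trans h3
    omega
  · have h3 := H264.CoverOver.card_ker_dvd (S2111.result h2 hF) hperf (e.toMonoidHom.comp π) hs' hc'
    have h4 : Nat.card (Multiplicative (ZMod 1)) = 1 := by
      rw [Nat.card_congr (Multiplicative.toAdd (α := ZMod 1)), Nat.card_zmod]
    rw [h4] at h3
    intro h5
    have := h5.trans h3
    omega

universe u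

/-- **The groups of Lie type.** -/
theorem qd_lie {p l r : ℕ} [hp : Fact p.Prime] [hl : Fact l.Prime] [hr' : Fact r.Prime] (hp3 : 3 < p)
    {L K : Type} [Group L] [Finite L] [Group K] [Finite K] [IsSimpleGroup K] (hna : ∃ a b : K, a * b ≠ b * a)
    {V : Type} [AddCommGroup V] [Module (ZMod p) V] [Finite V] {ρ : L →* Module.End (ZMod p) V} {π : L →* K} {y : L}
    (h : H25.S30.QD ρ π y) (hK : Cfsg.IsLieTypeChar l K)
    (huf : l ≠ 2 → ¬ (l = 3 ∧ Lie.IsoRee K) → H25.UFDef.UF l K) (hr : ¬ r ∣ Nat.card K)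
    (B : Subgroup (MulAut K)) (hB : IsPGroup r B)
    (hx : ∀ Q : Sylow p K, (∀ β ∈ B, ∀ k ∈ Q, β k ∈ Q) → π y ∈ Q) : π y = 1 := by
  by_contra hne
  have hxp := h.pow_eq
  have hcomm : ∀ Y : Subgroup K, (Nat.card Y).Coprime p → (∀ z ∈ Y, π y * z * (π y)⁻¹ ∈ Y) →
      ∀ z ∈ Y, π y * z = z * π y := fun Y hY hn => h.comm hp3 hY hn
  by_cases hlp : l = p
  · subst hlp
    exact hne (InterSyl.inter_sylow_eq_one hK hr B hB hx)
  by_cases hB1 : B = ⊥
  · refine hne (eq_one_of_mem_all hna (fun Q => hx Q ?_))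
    intro β hβ k hk
    rw [hB1, mem_bot] at hβ
    rw [hβ]
    exact hk
  by_cases hl2 : l = 2
  · subst hl2
    by_cases hsz : Lie.IsoSuzuki K
    · have h1 := h.three_dvd (by omega) hne
      have h2 : Nat.card L = Nat.card K * Nat.card π.ker := H264.CoverOver.card_eq_of_surj h.surj
      rw [h2] at h1
      rcases Nat.prime_three.dvd_mul.1 h1 with h3 | h3
      · exact H451.PowellE.not_three_dvd_suzuki hsz h3
      · exact not_three_dvd_of_suzuki hsz h.perf h.surj h.cen h3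
    · have hloc := H400.LieLocal.local_char_of_lie hK (fun h1 => hsz h1.2)
      obtain ⟨j, hj1, hj2, hj3⟩ := h.exists_involution (by omega) hne
      have hodd := NoRTwo.noR_two.{0} hK hsz hr B hB hB1 L h.perf π h.surj h.cen
      have hj4 : π j ≠ 1 := by
        intro h4
        have h5 : orderOf j ∣ Nat.card π.ker := by
          have := _root_.orderOf_dvd_natCard (⟨j, h4⟩ : π.ker)
          rwa [← Subgroup.orderOf_coe] at this
        have h6 : orderOf j ∣ 2 := orderOf_dvd_of_pow_eq_one (by rw [pow_two, hj2])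
        exact hj1 (orderOf_eq_one_iff.1 (Nat.eq_one_of_dvd_coprimes hodd h5 h6))
      refine hne (eq_one_of_locChar_elt hlp hloc hxp hcomm (u := π j) (k := 1) ?_ hj4 ?_)
      · rw [pow_one, pow_two, ← map_mul, hj2, map_one]
      · rw [← map_mul, hj3, map_mul]
  · by_cases hree : l = 3 ∧ Lie.IsoRee K
    · have hinj := injective_of_ree hree.2 h.perf h.surj h.cen
      refine h.sylow_two hp3 hne (fun T hT a ha b hb => hinj ?_)
      rw [map_mul, map_mul]
      exact comm_of_ree hree.2 (T.map π) (hT.map π) _ ⟨a, ha, rfl⟩ _ ⟨b, hb, rfl⟩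
    · have hcop : (Nat.card B).Coprime (Nat.card K) := by
        obtain ⟨n, hn⟩ := IsPGroup.iff_card.1 hB
        rw [hn]
        exact Nat.Coprime.pow_left n ((Nat.Prime.coprime_iff_not_dvd hr'.out).2 hr)
      obtain ⟨u, hu1, ⟨k, hk⟩, huB, hiso⟩ := huf hl2 hree B hcop
      have hloc := H400.LieLocal.local_char_of_lie hK (fun h1 => hl2 h1.1)
      exact hne (eq_one_of_locChar_elt hlp hloc hxp hcomm hk hu1
        (comm_of_iso (by omega) (Ne.symm hlp) hr B hB huB hiso hx))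

end Cfsg.Agent.H21.QDLie
end

private theorem dce_ddae97ae857c : _root_.True := by
  try have : _root_.True := by simp only [_root_.Cfsg.POmega.congr_simp]
  try have : _root_.True := by simp only [_root_.Cfsg.Agent.PLocal.SL2Gen.up.eq_1]
  exact _root_.True.intro
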